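import Groth.Agent.Lib.AIC6.Cohom
import Groth.Agent.Lib.AbsClosure4.Algebra
import Groth.Agent.Lib.EtStalk.IntegralBC
import Groth.Agent.Lib.FieldH25.Transfer
import Groth.Agent.Lib.LocAcyc24.Transport

/-!
# Constant sheaves pushed forward from absolutely integrally closed covers
-/

set_option autoImplicit false
set_option linter.style.haveILetI false
set_option backward.isDefEq.respectTransparency.types false

universe u

open CategoryTheory CategoryTheory.Limits AlgebraicGeometry Opposite CategoryTheory.Abelian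
open Groth.Agent.EtStalk

namespace Groth.Agent.AffAnalog24

theorem exists_cover (A : Type u) [CommRing A] :
    ∃ (B : Type u) (_ : CommRing B) (_ : Algebra A B), Algebra.IsIntegral A B ∧ Curves.IsAIC B ∧
      Function.Surjective (PrimeSpectrum.comap (algebraMap A B)) := by
  let L : PrimeSpectrum A → Type u := fun p => AlgebraicClosure p.asIdeal.ResidueField
  let B := integralClosure A (∀ p, L p)
  refine ⟨B, inferInstance, inferInstance, inferInstance, fun f hf hdeg => ?_, fun p => ?_⟩
  · obtain ⟨r, hr⟩ := AbsClosure4.monicRoots_integralClosure (R := A) (L := L) f hf hdeg.ne'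
    exact ⟨r, hr⟩
  · refine ⟨⟨RingHom.ker ((Pi.evalRingHom L p).comp B.val.toRingHom), RingHom.ker_isPrime _⟩,
      PrimeSpectrum.ext (Ideal.ext fun a => ?_)⟩
    show algebraMap A (L p) a = 0 ↔ a ∈ p.asIdeal
    rw [IsScalarTower.algebraMap_apply A p.asIdeal.ResidueField (L p),
      map_eq_zero_iff _ (algebraMap p.asIdeal.ResidueField (L p)).injective, ← RingHom.mem_ker,
      Ideal.ker_algebraMap_residueField]

theorem isAIC_quotient {B : Type u} [CommRing B] (hB : Curves.IsAIC B) (J : Ideal B) :
    Curves.IsAIC (B ⧸ J) := by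
  intro f hf hdeg
  obtain ⟨q, hq, hqd, hqm⟩ := Polynomial.lifts_and_natDegree_eq_and_monic (f := Ideal.Quotient.mk J) (p := f)
    (Polynomial.map_surjective _ Ideal.Quotient.mk_surjective f) hf
  obtain ⟨r, hr⟩ := hB q hqm (hqd ▸ hdeg)
  exact ⟨Ideal.Quotient.mk J r, by rw [← hq, Polynomial.eval_map_apply, hr, map_zero]⟩

theorem subsingleton_H_const_of_closed {B : Type u} [CommRing B] (hB : Curves.IsAIC B) {P : Scheme.{u}}
    (c : P ⟶ Spec (CommRingCat.of B)) [IsClosedImmersion c] (M : Type) [AddCommGroup M] [Finite M]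
    {q : ℕ} (hq : 0 < q) : Subsingleton (EtCoh.H P (EtCoh.const P M) q) := by
  obtain ⟨J, e, -⟩ := IsClosedImmersion.Spec_iff.1 ‹IsClosedImmersion c›
  haveI := AIC6.subsingleton_H_const (isAIC_quotient hB J) M hq
  haveI : Subsingleton (EtCoh.H P ((EtCoh.pull e.hom).obj (EtCoh.const _ M)) q) :=
    (LocAcyc24.bijective_Hpull_of_isIso e.hom (EtCoh.const _ M) q).2.subsingleton
  exact subsingleton_of_forall_eq 0 fun x =>
    FieldH25.eq_zero_of_comp_iso x (EtCore.pullConst e.hom M).symm (Subsingleton.elim _ _)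

theorem subsingleton_H_pull_push {B : Type u} [CommRing B] (hB : Curves.IsAIC B) {X Z : Scheme.{u}}
    (r : Spec (CommRingCat.of B) ⟶ X) [IsIntegralHom r] (i : Z ⟶ X) [IsClosedImmersion i]
    (M : Type) [AddCommGroup M] [Finite M] {q : ℕ} (hq : 0 < q) :
    Subsingleton (EtCoh.H Z ((EtCoh.pull i).obj ((EtCoh.push r).obj (EtCoh.const _ M))) q) := by
  let i' := pullback.fst r i
  let r' := pullback.snd r i
  have hpb : IsPullback i' r' r i := IsPullback.of_hasPullback r i
  haveI : IsIntegralHom r' := MorphismProperty.pullback_snd _ _ ‹IsIntegralHom r›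
  haveI : IsClosedImmersion i' := MorphismProperty.pullback_fst _ _ ‹IsClosedImmersion i›
  haveI := EtStalk.isIso_baseChange0_integral r i r' i' hpb (EtCoh.const (Spec (CommRingCat.of B)) M)
  haveI := subsingleton_H_const_of_closed hB i' M hq
  haveI : Subsingleton (EtCoh.H _ ((EtCoh.pull i').obj (EtCoh.const _ M)) q) :=
    subsingleton_of_forall_eq 0 fun x =>
      FieldH25.eq_zero_of_comp_iso x (EtCore.pullConst i' M) (Subsingleton.elim _ _)
  haveI : Subsingleton (EtCoh.H Z ((EtCoh.push r').obj ((EtCoh.pull i').obj (EtCoh.const _ M))) q) :=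
    (FieldH25.bijective_HofPush_integral r' _ q).1.subsingleton
  exact subsingleton_of_forall_eq 0 fun x => FieldH25.eq_zero_of_comp_iso x
    (asIso (EtCoh.baseChange0 r i r' i' hpb.w (EtCoh.const _ M))) (Subsingleton.elim _ _)

end Groth.Agent.AffAnalog24
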