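import Groth.Agent.Lib.EtStalk.Agree
import Groth.Agent.Lib.EtStalk.Push

/-!
# Torsion sheaves through their stalks
-/

set_option autoImplicit false
set_option linter.style.haveILetI false
set_option backward.isDefEq.respectTransparency.types false

universe u

open CategoryTheory CategoryTheory.Limits AlgebraicGeometry Opposite
open Groth.Agent.EtStalk

namespace Groth.Agent.AffAnalog24

variable {X : Scheme.{u}}

/-- Every element of every geometric stalk has finite order. -/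
def STors (F : EtCoh.Ab X) : Prop :=
  ∀ (Ω : Type u) [Field Ω] [IsSepClosed Ω] (ξ : Spec (CommRingCat.of Ω) ⟶ X) (q : (EtCoh.stalk ξ).obj F),
    ∃ m : ℕ, 0 < m ∧ m • q = 0

theorem sTors_of_isTorsion {F : EtCoh.Ab X} (h : EtCoh.IsTorsion F) : STors F := by
  intro Ω _ _ ξ q
  obtain ⟨U, x, s, rfl⟩ := germ_surjective ξ F q
  obtain ⟨V, g, hv, hfin⟩ := h U s (fibPt x)
  obtain ⟨m, hm, h0⟩ := isOfFinAddOrder_iff_nsmul_eq_zero.1 hfin
  refine ⟨m, hm, ?_⟩
  rw [← map_nsmul, ← map_zero (germ ξ F x).hom]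
  refine (mem_agree_iff_germ F x (m • s) 0).1 ⟨V, g, hv, ?_⟩
  rw [map_zero, map_nsmul]
  exact h0

theorem isTorsion_of_sTors {F : EtCoh.Ab X} (h : STors F) : EtCoh.IsTorsion F := fun U s x => by
  obtain ⟨φ, hφ⟩ := exists_fib U x
  obtain ⟨a, ha0, ha⟩ := h _ (geomPt X (U.hom x)) (germ (geomPt X (U.hom x)) F φ s)
  rw [← map_nsmul, ← map_zero (germ (geomPt X (U.hom x)) F φ).hom] at ha
  obtain ⟨V, g, y, hy, he⟩ := (germ_eq_iff _ F φ _ _).1 ha
  refine ⟨V, g, ⟨y.left (default : Spec (CommRingCat.of (SeparableClosure (X.residueField (U.hom x))))),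
    ?_⟩, isOfFinAddOrder_iff_nsmul_eq_zero.2 ⟨a, ha0, ?_⟩⟩
  · exact Eq.trans (congrArg (fun t : fib (geomPt X (U.hom x)) U => t.left (default :
      Spec (CommRingCat.of (SeparableClosure (X.residueField (U.hom x)))))) hy) hφ
  · rw [map_nsmul, map_zero] at he
    exact he

theorem sTors_of_nsmul_id {F : EtCoh.Ab X} {m : ℕ} (hm : 0 < m) (h : m • 𝟙 F = 0) : STors F := by
  intro Ω _ _ ξ q
  obtain ⟨U, x, s, rfl⟩ := germ_surjective ξ F q
  refine ⟨m, hm, ?_⟩
  let φ : (F ⟶ F) →+ F.obj.obj (op U) := AddMonoidHom.mk' (fun a => a.hom.app (op U) s) fun _ _ => rfl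
  rw [← map_nsmul, show m • s = 0 from (map_nsmul φ m (𝟙 F)).symm.trans ((congrArg φ h).trans (map_zero φ)),
    map_zero]

theorem STors.of_epi {F G : EtCoh.Ab X} (f : F ⟶ G) [Epi f] (h : STors F) : STors G := by
  intro Ω _ _ ξ q
  obtain ⟨p, rfl⟩ := (epi_iff_stalk f).1 ‹_› Ω ξ q
  obtain ⟨m, hm, hp⟩ := h Ω ξ p
  exact ⟨m, hm, by rw [← map_nsmul, hp, map_zero]⟩

theorem STors.biprod {F G : EtCoh.Ab X} (hF : STors F) (hG : STors G) : STors (F ⊞ G) := by
  intro Ω _ _ ξ q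
  haveI : PreservesBinaryBiproducts (EtCoh.stalk ξ) := preservesBinaryBiproducts_of_preservesBinaryProducts _
  haveI : (EtCoh.stalk ξ).Additive := Functor.additive_of_preservesBinaryBiproducts _
  obtain ⟨m, hm, h1⟩ := hF Ω ξ ((EtCoh.stalk ξ).map biprod.fst q)
  obtain ⟨n, hn, h2⟩ := hG Ω ξ ((EtCoh.stalk ξ).map biprod.snd q)
  refine ⟨m * n, Nat.mul_pos hm hn, ?_⟩
  have e : q = (EtCoh.stalk ξ).map biprod.inl ((EtCoh.stalk ξ).map biprod.fst q) +
      (EtCoh.stalk ξ).map biprod.inr ((EtCoh.stalk ξ).map biprod.snd q) := by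
    conv_lhs => rw [show q = (EtCoh.stalk ξ).map (𝟙 (F ⊞ G)) q by rw [CategoryTheory.Functor.map_id]; rfl,
      ← biprod.total, Functor.map_add, Functor.map_comp, Functor.map_comp]
    rfl
  have a : (m * n) • (EtCoh.stalk ξ).map biprod.fst q = 0 := by rw [mul_nsmul, h1, nsmul_zero]
  have b : (m * n) • (EtCoh.stalk ξ).map biprod.snd q = 0 := by rw [mul_nsmul', h2, nsmul_zero]
  rw [e, smul_add, ← map_nsmul ((EtCoh.stalk ξ).map biprod.inl).hom, a,
    ← map_nsmul ((EtCoh.stalk ξ).map biprod.inr).hom, b, map_zero, map_zero, add_zero]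

end Groth.Agent.AffAnalog24
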