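import Groth.Agent.Lib.AffAnalog24.AicCover
import Groth.Agent.Lib.AffAnalog24.Tors
import Groth.Agent.Lib.Embed24.Efface
import Groth.Agent.Lib.EtAcyc24.LqfCriterion
import Groth.Agent.Lib.EtColim.Site

/-!
# Effacing cohomology on a closed subscheme of an affine scheme
-/

set_option autoImplicit false
set_option linter.style.haveILetI false
set_option backward.isDefEq.respectTransparency.types false

universe u

open CategoryTheory CategoryTheory.Limits AlgebraicGeometry Opposite CategoryTheory.Abelian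
open Groth.Agent.EtStalk

namespace Groth.Agent.AffAnalog24

theorem H_eq_zero_of_components {Z : Scheme.{u}} {n : ℕ} {K : Fin n → EtCoh.Ab Z} (q : ℕ)
    (h : ∀ k, Subsingleton (EtCoh.H Z (K k) q)) : Subsingleton (EtCoh.H Z (⨁ K) q) :=
  subsingleton_of_forall_eq 0 fun y => by
    have e : ∑ k, y.comp (Ext.mk₀ (biproduct.π K k ≫ biproduct.ι K k)) (add_zero q) = y := by
      conv_rhs => rw [← Ext.comp_mk₀_id y, ← biproduct.total]
      rw [Ext.mk₀_sum, Ext.comp_sum]
    rw [← e]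
    refine Finset.sum_eq_zero fun k _ => ?_
    have h0 : y.comp (Ext.mk₀ (biproduct.π K k)) (add_zero q) = 0 := (h k).elim _ _
    rw [← Ext.mk₀_comp_mk₀, ← Ext.comp_assoc_of_third_deg_zero, h0, Ext.zero_comp]

/-- A sheaf on an affine scheme built from a constant sheaf embeds in a torsion one without cohomology
on a closed subscheme. -/
theorem exists_push_cover {X Y Z : Scheme.{u}} [IsAffine X] (f : Y ⟶ X) [IsFinite f] (i : Z ⟶ X)
    [IsClosedImmersion i] (M : Type) [AddCommGroup M] [Finite M] :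
    ∃ (G : EtCoh.Ab X) (u : (EtCoh.push f).obj (EtCoh.const Y M) ⟶ G),
      Mono u ∧ Nat.card M • 𝟙 G = 0 ∧
      ∀ q : ℕ, 0 < q → Subsingleton (EtCoh.H Z ((EtCoh.pull i).obj G) q) := by
  haveI : IsAffine Y := isAffine_of_isAffineHom f
  obtain ⟨B, _, _, hint, hB, hsurj⟩ := exists_cover Γ(Y, ⊤)
  haveI := hint
  let p : Spec (CommRingCat.of B) ⟶ Y :=
    Spec.map (CommRingCat.ofHom (algebraMap Γ(Y, ⊤) B)) ≫ Y.isoSpec.inv
  haveI : IsIntegralHom (Spec.map (CommRingCat.ofHom (algebraMap Γ(Y, ⊤) B))) := by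
    rw [IsIntegralHom.SpecMap_iff]
    exact algebraMap_isIntegral_iff.mpr hint
  haveI : Surjective (Spec.map (CommRingCat.ofHom (algebraMap Γ(Y, ⊤) B))) := ⟨hsurj⟩
  haveI : IsIntegralHom p := inferInstance
  haveI : Surjective p := inferInstance
  haveI : CompactSpace Y := inferInstance
  haveI := EtAcyc24.mono_unit_of_surjective p p.surjective (EtCoh.const Y M)
  let u₀ : EtCoh.const Y M ⟶ (EtCoh.push p).obj (EtCoh.const _ M) :=
    (EtCoh.pullPushAdj p).unit.app _ ≫ (EtCoh.push p).map (EtCore.pullConst p M).hom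
  haveI : Mono u₀ := @mono_comp _ _ _ _ _ _ (EtAcyc24.mono_unit_of_surjective p p.surjective (EtCoh.const Y M)) _
    ((EtCoh.push p).mapIso (EtCore.pullConst p M)).isIso_hom.mono_of_iso
  haveI := (EtCoh.pullPushAdj f).isRightAdjoint
  refine ⟨(EtCoh.push (p ≫ f)).obj (EtCoh.const _ M),
    (EtCoh.push f).map u₀ ≫ (EtCoh.pushComp f p).hom.app _, mono_comp _ _, ?_,
    fun q hq => subsingleton_H_pull_push hB (p ≫ f) i M hq⟩
  haveI : (EtCoh.push (p ≫ f)).Additive := (EtCoh.pullPushAdj (p ≫ f)).right_adjoint_additive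
  have e : Nat.card M • 𝟙 (AddCommGrpCat.of (ULift.{u + 1} M)) = 0 := by
    ext a
    show (Nat.card M • a : ULift.{u + 1} M).down = 0
    show Nat.card M • a.down = 0
    exact card_nsmul_eq_zero'
  have e' : Nat.card M • 𝟙 (EtCoh.const (Spec (CommRingCat.of B)) M) = 0 := by
    show Nat.card M • 𝟙 ((LocAcyc24.cs _).obj (AddCommGrpCat.of (ULift.{u + 1} M))) = 0
    rw [← CategoryTheory.Functor.map_id, ← Functor.map_nsmul, e, Functor.map_zero]
  rw [← CategoryTheory.Functor.map_id, ← Functor.map_nsmul, e', Functor.map_zero]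

/-- Cohomology on a closed subscheme of an affine scheme is effaced by torsion sheaves. -/
theorem exists_efface {X Z : Scheme.{u}} [IsAffine X] (i : Z ⟶ X) [IsClosedImmersion i]
    (F : EtCoh.Ab X) (hF : EtCoh.IsTorsion F) (q : ℕ) (hq : 0 < q)
    (ξ : EtCoh.H Z ((EtCoh.pull i).obj F) q) :
    ∃ (F' : EtCoh.Ab X) (_ : EtCoh.IsTorsion F') (φ : F ⟶ F') (_ : Mono φ),
      Sheaf.H.map ((EtCoh.pull i).map φ) q ξ = 0 := by
  classical
  haveI : CompactSpace X := inferInstance
  haveI : IsAffine Z := isAffine_of_isAffineHom i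
  obtain ⟨J, _, _, D, c, hc, hD, ⟨e⟩⟩ := Constr24.exists_colimit_constructible hF
  let e' : colimit D ≅ F := (colimit.isColimit D).coconePointUniqueUpToIso hc ≪≫ e
  haveI : PreservesColimitsOfSize.{u + 1, u + 1} (EtCoh.pull i) :=
    (EtCoh.pullPushAdj i).leftAdjoint_preservesColimits
  let e'' : colimit (D ⋙ EtCoh.pull i) ≅ (EtCoh.pull i).obj F :=
    (preservesColimitIso (EtCoh.pull i) D).symm ≪≫ (EtCoh.pull i).mapIso e'
  obtain ⟨d, ξ₀, hξ₀⟩ := (EtColim.surj_inj Z q (D ⋙ EtCoh.pull i)).1 (Sheaf.H.map e''.inv q ξ)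
  let u₀ : D.obj d ⟶ F := colimit.ι D d ≫ e'.hom
  have hu₀ : Sheaf.H.map ((EtCoh.pull i).map u₀) q ξ₀ = ξ := by
    have h1 : (EtCoh.pull i).map u₀ = colimit.ι (D ⋙ EtCoh.pull i) d ≫ e''.hom := by
      simp [u₀, e'']
    have hξ₀' : Sheaf.H.map (colimit.ι (D ⋙ EtCoh.pull i) d) q ξ₀ = Sheaf.H.map e''.inv q ξ := hξ₀
    rw [h1, Sheaf.H.map_comp_apply, hξ₀', ← Sheaf.H.map_comp_apply, e''.inv_hom_id, Sheaf.H.map_id_apply]
  obtain ⟨n, Y, f, hf, -, M, _, hM, ι, hι⟩ := Embed24.exists_embedding (hD d)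
  choose G u hu hG hv using fun k => haveI := hf k; exists_push_cover (f k) i (M k)
  haveI := hι
  haveI : ∀ k, Mono (u k) := hu
  let G₀ := ⨁ G
  let v : D.obj d ⟶ G₀ := ι ≫ biproduct.map u
  haveI : Mono v := mono_comp _ _
  refine ⟨pushout u₀ v, ?_, pushout.inl u₀ v, inferInstance, ?_⟩
  · have hd : Epi (biprod.desc (pushout.inl u₀ v) (pushout.inr u₀ v)) := ⟨fun {W} g h e => by
      apply pushout.hom_ext
      · simpa using congrArg (biprod.inl ≫ ·) e
      · simpa using congrArg (biprod.inr ≫ ·) e⟩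
    refine isTorsion_of_sTors (STors.of_epi (biprod.desc (pushout.inl u₀ v) (pushout.inr u₀ v))
      (STors.biprod (sTors_of_isTorsion hF) ?_))
    refine sTors_of_nsmul_id (m := ∏ k, Nat.card (M k)) (Finset.prod_pos fun k _ => Nat.card_pos) ?_
    refine biproduct.hom_ext _ _ fun k => ?_
    obtain ⟨c, hc⟩ := Finset.dvd_prod_of_mem (fun k => Nat.card (M k)) (Finset.mem_univ k)
    rw [zero_comp, Preadditive.nsmul_comp, Category.id_comp]
    calc (∏ k, Nat.card (M k)) • biproduct.π G k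
          = biproduct.π G k ≫ ((∏ k, Nat.card (M k)) • 𝟙 (G k)) := by
            rw [Preadditive.comp_nsmul, Category.comp_id]
      _ = 0 := by rw [hc, mul_comm, mul_nsmul', hG k, nsmul_zero, comp_zero]
  · rw [← hu₀, ← Sheaf.H.map_comp_apply, ← Functor.map_comp, pushout.condition, Functor.map_comp,
      Sheaf.H.map_comp_apply]
    haveI : (EtCoh.pull i).Additive := inferInstance
    haveI hG₀ : Subsingleton (EtCoh.H Z ((EtCoh.pull i).obj G₀) q) := by
      haveI : Subsingleton (EtCoh.H Z (⨁ ((EtCoh.pull i).obj ∘ G)) q) :=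
        H_eq_zero_of_components (K := (EtCoh.pull i).obj ∘ G) q fun k => hv k q hq
      exact subsingleton_of_forall_eq 0 fun y =>
        FieldH25.eq_zero_of_comp_iso y ((EtCoh.pull i).mapBiproduct G) (Subsingleton.elim _ _)
    rw [Subsingleton.elim (Sheaf.H.map ((EtCoh.pull i).map v) q ξ₀) 0, map_zero]

end Groth.Agent.AffAnalog24
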