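import Groth.Agent.Lib.AffAnalog24.Efface
import Groth.Agent.Lib.Gabber24.Hens
import Groth.Agent.Lib.EtDesc24.PullH

/-!
# Gabber's affine analogue of proper base change
-/

set_option autoImplicit false
set_option linter.style.haveILetI false
set_option backward.isDefEq.respectTransparency.types false
set_option maxHeartbeats 800000

universe u

open CategoryTheory CategoryTheory.Limits AlgebraicGeometry Opposite CategoryTheory.Abelian
open Groth.Agent.EtStalk

namespace Groth.Agent.AffAnalog24

theorem shortExact_map_pullPush {X Z : Scheme.{u}} (i : Z ⟶ X) [IsClosedImmersion i]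
    [(EtCoh.push i).Additive] {S : ShortComplex (EtCoh.Ab X)} (hS : S.ShortExact) :
    ((S.map (EtCoh.pull i)).map (EtCoh.push i)).ShortExact := by
  haveI := (EtCoh.pullPushAdj i).isRightAdjoint
  haveI := preservesEpimorphisms_push_integral i
  haveI := (EtCoh.push i).preservesHomology_of_preservesEpis_and_kernels
  have hS' := hS.map_of_exact (EtCoh.pull i)
  haveI := hS'.mono_f
  haveI := hS'.epi_g
  exact
    { exact := hS'.exact.map (EtCoh.push i)
      mono_f := inferInstanceAs (Mono ((EtCoh.push i).map (S.map (EtCoh.pull i)).f))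
      epi_g := inferInstanceAs (Epi ((EtCoh.push i).map (S.map (EtCoh.pull i)).g)) }

section Delta

variable {C : Type*} [Category C] [Abelian C] [HasExt C] {L : C} {S T : ShortComplex C}

/-- One step of the comparison of two long exact sequences: injectivity. -/
theorem delta_injective (hS : S.ShortExact) (hT : T.ShortExact) (ψ : S ⟶ T) (q : ℕ)
    (h2 : Function.Surjective fun a : Ext L S.X₂ q => a.comp (Ext.mk₀ ψ.τ₂) (add_zero q))
    (h3 : Function.Injective fun a : Ext L S.X₃ q => a.comp (Ext.mk₀ ψ.τ₃) (add_zero q))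
    (x : Ext L S.X₁ (q + 1)) (hx : x.comp (Ext.mk₀ S.f) (add_zero _) = 0)
    (hψ : x.comp (Ext.mk₀ ψ.τ₁) (add_zero _) = 0) : x = 0 := by
  obtain ⟨c, hc⟩ := Ext.covariant_sequence_exact₁ _ hS x hx (n₀ := q) rfl
  have hc' : (c.comp (Ext.mk₀ ψ.τ₃) (add_zero q)).comp hT.extClass rfl = 0 := by
    rw [Ext.comp_assoc_of_second_deg_zero, ← hS.extClass_naturality hT ψ,
      ← Ext.comp_assoc_of_third_deg_zero _ _ _ (rfl : q + 1 = q + 1), hc, hψ]
  obtain ⟨b', hb'⟩ := Ext.covariant_sequence_exact₃ _ hT (c.comp (Ext.mk₀ ψ.τ₃) (add_zero q)) rfl hc'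
  obtain ⟨b₀, hb₀⟩ := h2 b'
  have hcb : b₀.comp (Ext.mk₀ S.g) (add_zero q) = c := by
    apply h3
    show (b₀.comp (Ext.mk₀ S.g) (add_zero q)).comp (Ext.mk₀ ψ.τ₃) (add_zero q) = c.comp (Ext.mk₀ ψ.τ₃) (add_zero q)
    rw [← hb', ← hb₀]
    simp only [Ext.comp_assoc_of_third_deg_zero, Ext.mk₀_comp_mk₀, ψ.comm₂₃]
  rw [← hc, ← hcb, Ext.comp_assoc_of_second_deg_zero, hS.comp_extClass, Ext.comp_zero]

/-- One step of the comparison of two long exact sequences: surjectivity. -/
theorem delta_surjective (hS : S.ShortExact) (hT : T.ShortExact) (ψ : S ⟶ T) (q : ℕ)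
    (h3 : Function.Surjective fun a : Ext L S.X₃ q => a.comp (Ext.mk₀ ψ.τ₃) (add_zero q))
    (y : Ext L T.X₁ (q + 1)) (hy : y.comp (Ext.mk₀ T.f) (add_zero _) = 0) :
    ∃ x : Ext L S.X₁ (q + 1), x.comp (Ext.mk₀ ψ.τ₁) (add_zero _) = y := by
  obtain ⟨c, hc⟩ := Ext.covariant_sequence_exact₁ _ hT y hy (n₀ := q) rfl
  obtain ⟨c₀, rfl⟩ := h3 c
  refine ⟨c₀.comp hS.extClass rfl, ?_⟩
  rw [← hc, Ext.comp_assoc_of_third_deg_zero, hS.extClass_naturality hT ψ, Ext.comp_assoc_of_second_deg_zero]

end Delta

variable {X Z : Scheme.{u}} [IsAffine X] (i : Z ⟶ X) [IsClosedImmersion i]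

theorem bijective_unit_H (h0 : ∀ F : EtCoh.Ab X,
      Function.Bijective (((EtCoh.pullPushAdj i).unit.app F).hom.app (op (EtCoh.top X)))) :
    ∀ (q : ℕ) (F : EtCoh.Ab X), EtCoh.IsTorsion F →
      Function.Bijective (Sheaf.H.map ((EtCoh.pullPushAdj i).unit.app F) q) := by
  let hT := EtCore.topIsTerminal X
  intro q
  induction q with
  | zero =>
    intro F _
    constructor
    · intro a b hab
      exact (Sheaf.H.equiv₀ F hT).injective ((h0 F).1 ((Sheaf.H.equiv₀_naturality hT _ a).trans
        ((congrArg (Sheaf.H.equiv₀ _ hT) hab).trans (Sheaf.H.equiv₀_naturality hT _ b).symm)))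
    · intro b
      obtain ⟨a, ha⟩ := (h0 F).2 (Sheaf.H.equiv₀ _ hT b)
      refine ⟨(Sheaf.H.equiv₀ F hT).symm a, (Sheaf.H.equiv₀ _ hT).injective ?_⟩
      exact (Sheaf.H.equiv₀_naturality hT _ _).symm.trans
        ((congrArg _ ((Sheaf.H.equiv₀ F hT).apply_symm_apply a)).trans ha)
  | succ q ih =>
    intro F hF
    constructor
    · intro a b hab
      rw [← sub_eq_zero]
      have hab' : Sheaf.H.map ((EtCoh.pullPushAdj i).unit.app F) (q + 1) (a - b) = 0 := by
        rw [map_sub, hab, sub_self]
      generalize a - b = x at hab' ⊢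
      -- kill the class on `X`
      let eid := EtDesc24.pullId X
      obtain ⟨F', hF', φ, hφ, hker⟩ := exists_efface (𝟙 X) F hF (q + 1) (Nat.succ_pos q)
        (Sheaf.H.map (eid.inv.app F) (q + 1) x)
      have hx : Sheaf.H.map φ (q + 1) x = 0 := by
        apply FieldH25.eq_zero_of_comp_iso _ (eid.app F').symm
        show Sheaf.H.map (eid.inv.app F') (q + 1) (Sheaf.H.map φ (q + 1) x) = 0
        rw [← Sheaf.H.map_comp_apply, show φ ≫ eid.inv.app F' = eid.inv.app F ≫ (EtCoh.pull (𝟙 X)).map φ from
          eid.inv.naturality φ, Sheaf.H.map_comp_apply, hker]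
      haveI : (EtCoh.push i).Additive := (EtCoh.pullPushAdj i).right_adjoint_additive
      haveI := hφ
      let S := ShortComplex.mk φ (cokernel.π φ) (cokernel.condition φ)
      have hS : S.ShortExact := { exact := ShortComplex.exact_cokernel φ }
      have hT' := shortExact_map_pullPush i hS
      let u := (EtCoh.pullPushAdj i).unit
      let ψ : S ⟶ (S.map (EtCoh.pull i)).map (EtCoh.push i) :=
        { τ₁ := u.app F, τ₂ := u.app F', τ₃ := u.app (cokernel φ)
          comm₁₂ := (u.naturality φ).symm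
          comm₂₃ := (u.naturality (cokernel.π φ)).symm }
      have h2 : Function.Bijective (Sheaf.H.map ψ.τ₂ q) := ih F' hF'
      have h3 : Function.Bijective (Sheaf.H.map ψ.τ₃ q) :=
        ih (cokernel φ) (isTorsion_of_sTors ((sTors_of_isTorsion hF').of_epi (cokernel.π φ)))
      exact delta_injective hS hT' ψ q h2.2 h3.1 x hx hab'
    · intro y
      -- kill the class on `Z`
      obtain ⟨F', hF', φ, hφ, hker⟩ := exists_efface i F hF (q + 1) (Nat.succ_pos q)
        (EtLim.HofPush i ((EtCoh.pull i).obj F) (q + 1) y)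
      have hy : Sheaf.H.map ((EtCoh.pull i ⋙ EtCoh.push i).map φ) (q + 1) y = 0 := by
        apply (FieldH25.bijective_HofPush_integral i ((EtCoh.pull i).obj F') (q + 1)).1
        rw [map_zero]
        refine (HofPush_comp i ((EtCoh.pull i).map φ) (q + 1) y).trans ?_
        exact hker
      haveI : (EtCoh.push i).Additive := (EtCoh.pullPushAdj i).right_adjoint_additive
      haveI := hφ
      let S := ShortComplex.mk φ (cokernel.π φ) (cokernel.condition φ)
      have hS : S.ShortExact := { exact := ShortComplex.exact_cokernel φ }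
      have hT' := shortExact_map_pullPush i hS
      let u := (EtCoh.pullPushAdj i).unit
      let ψ : S ⟶ (S.map (EtCoh.pull i)).map (EtCoh.push i) :=
        { τ₁ := u.app F, τ₂ := u.app F', τ₃ := u.app (cokernel φ)
          comm₁₂ := (u.naturality φ).symm
          comm₂₃ := (u.naturality (cokernel.π φ)).symm }
      have h2 : Function.Bijective (Sheaf.H.map ψ.τ₂ q) := ih F' hF'
      have h3 : Function.Bijective (Sheaf.H.map ψ.τ₃ q) :=
        ih (cokernel φ) (isTorsion_of_sTors ((sTors_of_isTorsion hF').of_epi (cokernel.π φ)))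
      exact delta_surjective hS hT' ψ q h3.2 y hy

/-- For a henselian pair the closed subscheme has the same cohomology. -/
theorem bijective_of_henselian (A : Type u) [CommRing A] (I : Ideal A) [HenselianRing A I]
    (F : EtCoh.Ab (Spec (CommRingCat.of A))) (hF : EtCoh.IsTorsion F) (q : ℕ) :
    Function.Bijective
      (Sheaf.H.map ((EtCoh.pullPushAdj (Spec.map (CommRingCat.ofHom (Ideal.Quotient.mk I)))).unit.app F) q) := by
  let i := Spec.map (CommRingCat.ofHom (Ideal.Quotient.mk I))
  haveI : IsClosedImmersion i := IsClosedImmersion.spec_of_surjective _ Ideal.Quotient.mk_surjective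
  have hr : Set.range i = PrimeSpectrum.zeroLocus (I : Set A) := by
    conv_rhs => rw [← Ideal.mk_ker (I := I)]
    exact range_comap_of_surjective _ (Ideal.Quotient.mk I) Ideal.Quotient.mk_surjective
  refine bijective_unit_H i (fun G => Gabber24.bijective_unit i ?_ ?_ G) q F hF
  · rw [hr]
    exact Gabber24.secEq_of_proper (I := I) inferInstance (𝟙 (Spec (CommRingCat.of A)))
  · intro X' π hπ
    haveI := hπ
    rw [hr]
    exact Gabber24.secEq_of_proper (I := I) inferInstance π

end Groth.Agent.AffAnalog24
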